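import Cfsg.Agent.H94.BCGLO3
import Cfsg.Agent.H92.Reduce

/-! A fusion system generated by the inner one and a group of automorphisms of one minimal
centric subgroup is saturated. -/

set_option autoImplicit false

namespace Cfsg.Agent.BIC

open Cfsg Cfsg.FusionSystem Cfsg.Agent.H91 Cfsg.Agent.H94

variable {Ω : Type*} [Group Ω] {S Q : Subgroup Ω}

/-- Generators: conjugations on `S` and the members of `Δ` on `Q`. -/
def Gn (S Q : Subgroup Ω) (Δ : Subgroup (MulAut Q)) (R : Subgroup Ω) (h : Ω → Ω) : Prop :=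
  (R = S ∧ ∃ s ∈ S, h = fun x => s * x * s⁻¹) ∨ (R = Q ∧ ∃ δ ∈ Δ, h = efn δ)

theorem gn_data (hQ : Q ≤ S) (Δ : Subgroup (MulAut Q)) : GenData S (Gn S Q Δ) where
  mem := by
    rintro R h (⟨rfl, s, hs, rfl⟩ | ⟨rfl, δ, -, rfl⟩) x hx
    · exact mul_mem (mul_mem hs hx) (inv_mem hs)
    · exact hQ (efn_mem δ hx)
  homOn := by
    rintro R h (⟨rfl, s, hs, rfl⟩ | ⟨rfl, δ, -, rfl⟩)
    · exact homOn_conj _ _
    · exact homOn_efn δ
  injOn := by
    rintro R h (⟨rfl, s, hs, rfl⟩ | ⟨rfl, δ, -, rfl⟩) a ha b hb e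
    · exact mul_left_cancel (mul_right_cancel e)
    · rw [← efn_inv_efn δ ha, e, efn_inv_efn δ hb]
  conj := fun hg => Chain.single (Or.inl ⟨rfl, _, hg, rfl⟩) le_rfl
  inv := by
    rintro R h (⟨rfl, s, hs, rfl⟩ | ⟨rfl, δ, hδ, rfl⟩)
    · exact ⟨_, Chain.single (Or.inl ⟨rfl, s⁻¹, inv_mem hs, rfl⟩)
        (im_le_iff.2 fun x hx => mul_mem (mul_mem hs hx) (inv_mem hs)), fun x _ => by group⟩
    · exact ⟨_, Chain.single (Or.inr ⟨rfl, δ⁻¹, inv_mem hδ, rfl⟩) (im_efn δ).le,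
        fun x hx => efn_inv_efn δ hx⟩

/-- Subgroups not properly contained in a conjugate of `Q`. -/
def Big (S Q P : Subgroup Ω) : Prop :=
  P ≤ S ∧ ∀ g ∈ S, (∀ x ∈ P, g * x * g⁻¹ ∈ Q) → im (fun x => g * x * g⁻¹) P = Q

theorem nm_of_form [Finite Q] {P : Subgroup Ω} {g h : Ω} {δ : MulAut Q}
    (hg : im (fun x => g * x * g⁻¹) P = Q) (hm : ∀ x ∈ P, h * efn δ (g * x * g⁻¹) * h⁻¹ ∈ Q) :
    h ∈ Subgroup.normalizer (Q : Set Ω) := by
  refine mem_normalizer_of_conj_mem fun y hy => ?_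
  obtain ⟨x, hx, e⟩ := (homOn_conj P g).mem_im.1 (hg.ge (efn_mem δ⁻¹ hy))
  have := hm x hx
  rwa [e, efn_efn_inv δ hy] at this

theorem desc [Finite S] (hQ : Q ≤ S) {Δ : Subgroup (MulAut Q)} (hΔ : autInducedBy S Q ≤ Δ)
    {P : Subgroup Ω} (hP : Big S Q P) {f : Ω → Ω} (hf : Chain (Gn S Q Δ) P f) :
    (∃ s ∈ S, ∀ x ∈ P, f x = s * x * s⁻¹) ∨ ∃ g ∈ S, ∃ h ∈ S, ∃ δ ∈ Δ,
      im (fun x => g * x * g⁻¹) P = Q ∧ ∀ x ∈ P, f x = h * efn δ (g * x * g⁻¹) * h⁻¹ := by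
  have := finite_of_le hQ
  induction hf with
  | base e => exact Or.inl ⟨1, one_mem _, fun x hx => by rw [e x hx]; group⟩
  | @step f g h R _ hh hm e ih =>
    rcases hh with ⟨rfl, s, hs, rfl⟩ | ⟨rfl, δ, hδ, rfl⟩
    · rcases ih with ⟨a, ha, e'⟩ | ⟨a, ha, b, hb, δ, hδ, h1, e'⟩
      · exact Or.inl ⟨s * a, mul_mem hs ha, fun x hx => by rw [e x hx, e' x hx]; group⟩
      · exact Or.inr ⟨a, ha, s * b, mul_mem hs hb, δ, hδ, h1, fun x hx => by
          rw [e x hx, e' x hx]; group⟩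
    · rcases ih with ⟨a, ha, e'⟩ | ⟨a, ha, b, hb, δ', hδ', h1, e'⟩
      · exact Or.inr ⟨a, ha, 1, one_mem _, δ, hδ, hP.2 a ha fun x hx => e' x hx ▸ hm x hx,
          fun x hx => by rw [e x hx, e' x hx]; group⟩
      · have hn := nm_of_form h1 fun x hx => e' x hx ▸ hm x hx
        refine Or.inr ⟨a, ha, 1, one_mem _, δ * cjAut R b hn * δ',
          mul_mem (mul_mem hδ (hΔ (cjAut_mem_autInducedBy hb hn))) hδ', h1, fun x hx => ?_⟩
        have h2 : a * x * a⁻¹ ∈ R := h1 ▸ mem_im_of_mem (fun x => a * x * a⁻¹) hx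
        rw [e x hx, e' x hx, efn_mul _ _ h2, efn_mul _ _ (efn_mem _ h2),
          efn_cjAut _ _ _ (efn_mem _ h2)]
        group

theorem exists_sat_gen [Finite S] {p : ℕ} [Fact p.Prime] (hS : IsPGroup p S) (hQ : Q ≤ S)
    {Δ : Subgroup (MulAut Q)} (hs : SylIn p (autInducedBy S Q) Δ)
    (hti : ∀ δ ∈ Δ, δ ∉ autInducedBy S Q → ∀ n, ∀ hn : n ∈ normalizerIn S Q,
      δ * cjAut Q n hn.2 * δ⁻¹ ∈ autInducedBy S Q → n ∈ Q)
    (hc : ∀ R < Q, ∃ δ ∈ Δ, ¬ centralizerIn S (im (efn δ) R) ≤ im (efn δ) R) :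
    ∃ F : FusionSystem S, F.IsSaturated p ∧ ∀ δ ∈ Δ, M F Q (efn δ) := by
  have := finite_of_le hQ
  have hX := gn_data hQ Δ
  have hΔ := hs.le
  have hM : ∀ δ ∈ Δ, M hX.fs Q (efn δ) := fun δ hδ => hX.M_of_gen hQ (Or.inr ⟨rfl, δ, hδ, rfl⟩)
  have hd := fun {P : Subgroup Ω} (hP : Big S Q P) {f : Ω → Ω} (hf : M hX.fs P f) =>
    desc hQ hΔ hP (hX.M_iff.1 hf).2
  have cardc : ∀ (P : Subgroup Ω) (g : Ω), Nat.card (im (fun x => g * x * g⁻¹) P) = Nat.card P :=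
    fun P g => (homOn_conj P g).card_im fun a _ b _ e => mul_left_cancel (mul_right_cancel e)
  have hQb : Big S Q Q := ⟨hQ, fun g _ h => eq_of_le_of_card_le (im_le_iff.2 h) (cardc Q g).ge⟩
  have hconj : ∀ P, Big S Q P → ∀ P', hX.fs.IsConj P P' → Big S Q P' := fun P hP P' h => by
    obtain ⟨f, hf, rfl⟩ := isConj_iff.1 h
    refine ⟨hf.im_le, fun g hg hm => eq_of_le_of_card_le (im_le_iff.2 hm) ?_⟩
    rw [cardc, hf.card_im le_rfl]
    rcases hd hP (hf.conj_comp hg) with ⟨s, hs, e⟩ | ⟨a, -, -, -, -, -, h1, -⟩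
    · rw [← hP.2 s hs fun x hx => e x hx ▸ hm _ (mem_im_of_mem f hx), cardc]
    · rw [← h1, cardc]
  have ext : ∀ {P : Subgroup Ω} {f : Ω → Ω}, (∃ s ∈ S, ∀ x ∈ P, f x = s * x * s⁻¹) →
      ∃ f', M hX.fs (extSub S P f) f' ∧ ∀ x ∈ P, f' x = f x := fun ⟨s, hs, e⟩ =>
    ⟨_, M.conj _ ((extSub_le _ _ _).trans (normalizerIn_le _ _)) hs, fun x hx => (e x hx).symm⟩
  refine ⟨hX.fs, saturated_of_family hS {P | Big S Q P} hconj (fun P hP => ?_)
    (fun A f hf => (hX.M_iff.1 hf).2.mono ?_) (fun P hP hb => ?_), hM⟩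
  · by_cases hPQ : ∃ g ∈ S, im (fun x => g * x * g⁻¹) P = Q
    · obtain ⟨g, hg, e⟩ := hPQ
      refine ⟨Q, isConj_iff.2 ⟨_, M.conj _ hP.1 hg, e⟩, isFullyAutomized_iff.2 ⟨hQ, ?_⟩,
        isReceptive_iff.2 ⟨hQ, fun P' f hf him => ?_⟩⟩
      · suffices h : hX.fs.autGroup Q = Δ by rwa [h]
        refine le_antisymm (fun α hα => ?_) fun δ hδ => (hM δ hδ).mem_autGroup
        rcases hd hQb ((mem_autGroup_iff hQ).1 hα) with ⟨s, hs, e⟩ | ⟨a, ha, b, hb, δ, hδ, h1, e⟩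
        · exact hΔ (mem_autInducedBy_iff.2 ⟨s, hs, fun x => by rw [← e x x.2, efn_of_mem α x.2]⟩)
        · have hb' := nm_of_form h1 fun x hx => e x hx ▸ efn_mem α hx
          have ha' := mem_normalizer_iff_im_conj.2 h1
          have : α = cjAut Q b hb' * δ * cjAut Q a ha' := mulAut_ext_efn fun x hx => by
            have h2 := conj_mem_of_mem_normalizer ha' hx
            rw [e x hx, efn_mul _ _ hx, efn_cjAut _ _ _ hx, efn_mul _ _ h2,
              efn_cjAut _ _ _ (efn_mem _ h2)]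
          rw [this]
          exact mul_mem (mul_mem (hΔ (cjAut_mem_autInducedBy hb hb')) hδ)
            (hΔ (cjAut_mem_autInducedBy ha ha'))
      · have hP' := hconj Q hQb P' (isConj_symm (isConj_iff.2 ⟨f, hf, him⟩))
        rcases hd hP' hf with h | ⟨a, ha, b, hb, δ, hδ, h1, e⟩
        · exact ext h
        have hb' := nm_of_form h1 fun x hx => e x hx ▸ him ▸ mem_im_of_mem f hx
        have h2 : ∀ x ∈ P', a * x * a⁻¹ ∈ Q := fun x hx =>
          h1 ▸ mem_im_of_mem (fun x => a * x * a⁻¹) hx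
        have e' : ∀ x ∈ P', f x = efn (cjAut Q b hb' * δ) (a * x * a⁻¹) := fun x hx => by
          rw [e x hx, efn_mul _ _ (h2 x hx), efn_cjAut _ _ _ (efn_mem _ (h2 x hx))]
        have hδ' := mul_mem (hΔ (cjAut_mem_autInducedBy hb hb')) hδ
        generalize cjAut Q b hb' * δ = ε at e' hδ'
        by_cases hε : ε ∈ autInducedBy S Q
        · obtain ⟨n, hn, e2⟩ := mem_autInducedBy_iff'.1 hε
          exact ext ⟨n * a, mul_mem hn.1 ha, fun x hx => by rw [e' x hx, e2 _ (h2 x hx)]; group⟩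
        refine ⟨f, hf.restrict fun n hn => ?_, fun _ _ => rfl⟩
        obtain ⟨hn1, k, hk, e2⟩ := mem_extSub.1 hn
        have h3 : ∀ y ∈ Q, a⁻¹ * y * a ∈ P' := fun y hy => by
          rw [← h1] at hy
          obtain ⟨x, hx, rfl⟩ := (homOn_conj P' a).mem_im.1 hy
          simpa [mul_assoc] using hx
        have hn' : a * n * a⁻¹ ∈ normalizerIn S Q :=
          ⟨S.mul_mem (S.mul_mem ha hn1.1) (S.inv_mem ha), mem_normalizer_of_conj_mem fun y hy => by
            have := h2 _ (conj_mem_of_mem_normalizer hn1.2 (h3 y hy))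
            convert this using 1; group⟩
        have h4 := hti ε hδ' hε _ hn' (mem_autInducedBy_iff.2 ⟨k, hk, fun y => by
          have hy := efn_mem ε⁻¹ y.2
          have h5 := e2 _ (h3 _ hy)
          rw [e' _ (h3 _ hy), e' _ (conj_mem_of_mem_normalizer hn1.2 (h3 _ hy))] at h5
          rw [← efn_of_mem _ y.2, efn_mul _ _ y.2, efn_mul _ _ hy, efn_cjAut _ _ _ hy]
          rw [show a * (a⁻¹ * efn ε⁻¹ y * a) * a⁻¹ = efn ε⁻¹ y by group, efn_efn_inv ε y.2] at h5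
          rw [← h5]
          congr 1; group⟩)
        simpa [mul_assoc] using h3 _ h4
    · have inn : ∀ {P' : Subgroup Ω} {f : Ω → Ω}, M hX.fs P' f → im f P' = P →
          ∃ s ∈ S, ∀ x ∈ P', f x = s * x * s⁻¹ := fun {P' f} hf him => by
        rcases hd (hconj P hP P' (isConj_symm (isConj_iff.2 ⟨f, hf, him⟩))) hf with
          h | ⟨a, ha, b, hb, δ, hδ, h1, e⟩
        · exact h
        refine absurd ⟨b⁻¹, inv_mem hb, hP.2 _ (inv_mem hb) fun y hy => ?_⟩ hPQ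
        rw [← him] at hy
        obtain ⟨x, hx, rfl⟩ := hf.homOn.mem_im.1 hy
        rw [e x hx]
        simpa [mul_assoc] using
          efn_mem δ (h1 ▸ mem_im_of_mem (fun x => a * x * a⁻¹) hx : a * x * a⁻¹ ∈ Q)
      refine ⟨P, isConj_refl _ hP.1, isFullyAutomized_iff.2 ⟨hP.1, ?_⟩,
        isReceptive_iff.2 ⟨hP.1, fun P' f hf him => ext (inn hf him)⟩⟩
      have : hX.fs.autGroup P = autInducedBy S P := by
        refine le_antisymm (fun α hα => ?_) (autInducedBy_le_autGroup _ hP.1)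
        obtain ⟨s, hs, e⟩ := inn ((mem_autGroup_iff hP.1).1 hα) (im_efn α)
        exact mem_autInducedBy_iff.2 ⟨s, hs, fun x => by rw [← e x x.2, efn_of_mem α x.2]⟩
      rw [this]
      exact sylIn_self (isPGroup_autInducedBy hS P)
  · rintro R h hh
    refine ⟨hX.M_of_gen ?_ hh, ?_⟩ <;> rcases hh with ⟨rfl, -⟩ | ⟨rfl, -⟩
    exacts [le_rfl, hQ, Or.inr rfl, Or.inl hQb]
  · exfalso
    refine hb ⟨hP.1, fun g hg hm => by_contra fun hne => ?_⟩
    obtain ⟨δ, hδ, h⟩ := hc _ (lt_of_le_of_ne (im_le_iff.2 hm) hne)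
    exact h (hP.2 _ (isConj_trans (M.conj _ hP.1 hg).isConj
      ((hM δ hδ).restrict (im_le_iff.2 hm)).isConj))

theorem exists_sat [Finite S] (hS : IsPGroup 2 S) (hQ : Q ≤ S) (α : MulAut Q) (h3 : α ^ 3 = 1)
    (h1 : α ≠ 1) {t : Ω} (ht : t ∈ normalizerIn S Q)
    (hN : ∀ n ∈ normalizerIn S Q, n ∈ Q ∨ t⁻¹ * n ∈ Q)
    (hb : α * cjAut Q t ht.2 * α ∈ autInducedBy S Q)
    (hc : ∀ R < Q, ∃ i : ℕ, ¬ centralizerIn S (im (efn (α ^ i)) R) ≤ im (efn (α ^ i)) R) :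
    ∃ F : FusionSystem S, F.IsSaturated 2 ∧ ¬ H92.Inner F := by
  have := finite_of_le hQ
  have : Fact (Nat.Prime 2) := ⟨Nat.prime_two⟩
  set A := autInducedBy S Q with hA
  have np : ∀ H : Subgroup (MulAut Q), IsPGroup 2 H → α ∉ H := fun H hH hα => by
    obtain ⟨v, hv⟩ := pow_eq_one_of_mem_isPGroup hH hα
    have := pow_gcd_eq_one.2 ⟨h3, hv⟩
    rw [Nat.Coprime.pow_right v (show Nat.Coprime 3 2 by norm_num), pow_one] at this
    exact h1 this
  have hαA : α ∉ A := np _ (isPGroup_autInducedBy hS Q)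
  have hI : ∀ (β : MulAut Q) {n : Ω} (hn : n ∈ Subgroup.normalizer (Q : Set Ω)), n ∈ Q →
      β * cjAut Q n hn * β⁻¹ ∈ A := fun β n hn h =>
    Inn_le_autInducedBy hQ ((innNormal Q).conj_mem _
      (autInducedBy_self Q ▸ cjAut_mem_autInducedBy h hn) β)
  have hout : ∀ {n : Ω} (hn : n ∈ normalizerIn S Q), n ∉ Q → α * cjAut Q n hn.2 * α ∈ A :=
    fun {n} hn h => by
      have h2 := (hN n hn).resolve_left h
      have h4 : cjAut Q n hn.2 = cjAut Q t ht.2 * cjAut Q _ (Subgroup.le_normalizer h2) :=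
        mulAut_ext_efn fun x hx => by
          rw [efn_mul _ _ hx, efn_cjAut _ _ _ hx, efn_cjAut _ _ _ hx, efn_cjAut _ _ _
            (mul_mem (mul_mem h2 hx) (inv_mem h2))]
          group
      have := mul_mem hb (hI α⁻¹ (Subgroup.le_normalizer h2) h2)
      rw [h4]
      convert this using 1; group
  have a2 : α * α = α⁻¹ := by rw [eq_inv_iff_mul_eq_one, ← h3, pow_succ, sq]
  have key : ∀ β ∈ A, (α * β * α⁻¹ ∈ A ∧ α⁻¹ * β * α ∈ A) ∨
      (α * β * α ∈ A ∧ α⁻¹ * β * α⁻¹ ∈ A) := fun β hβ => by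
    obtain ⟨n, hn, e⟩ := mem_autInducedBy_iff'.1 hβ
    have e1 : β = cjAut Q n hn.2 := mulAut_ext_efn fun x hx => by rw [e x hx, efn_cjAut _ _ _ hx]
    have e2 : β⁻¹ = cjAut Q n⁻¹ (inv_mem hn).2 := mulAut_ext_efn fun x hx => by
      rw [efn_cjAut _ _ _ hx]
      conv_lhs => rw [show x = n * (n⁻¹ * x * n⁻¹⁻¹) * n⁻¹ by group]
      have h5 := conj_mem_of_mem_normalizer (inv_mem hn).2 hx
      rw [← e _ h5, efn_inv_efn _ h5]
    by_cases h : n ∈ Q
    · exact Or.inl ⟨e1 ▸ hI α hn.2 h, by simpa [e1] using hI α⁻¹ hn.2 h⟩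
    · refine Or.inr ⟨e1 ▸ hout hn h, ?_⟩
      have := inv_mem (hout (inv_mem hn) (by simpa using h))
      rw [← e2] at this
      simpa [mul_assoc] using this
  let Δ : Subgroup (MulAut Q) :=
    { carrier := {β | β ∈ A ∨ β * α ∈ A ∨ β * α⁻¹ ∈ A}
      one_mem' := Or.inl (one_mem _)
      mul_mem' := by
        have r : ∀ b, b ∈ A → (α * b ∈ A ∨ α * b * α ∈ A ∨ α * b * α⁻¹ ∈ A) ∧
            (α⁻¹ * b ∈ A ∨ α⁻¹ * b * α ∈ A ∨ α⁻¹ * b * α⁻¹ ∈ A) := fun b hb => by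
          rcases key b hb with h | h <;> tauto
        have sh : ∀ b, (b ∈ A ∨ b * α ∈ A ∨ b * α⁻¹ ∈ A) →
            (b * α ∈ A ∨ b * α * α ∈ A ∨ b * α * α⁻¹ ∈ A) := fun b h => by
          rw [mul_assoc, a2, mul_inv_cancel_right]; tauto
        have sh' : ∀ b, (b ∈ A ∨ b * α ∈ A ∨ b * α⁻¹ ∈ A) →
            (b * α⁻¹ ∈ A ∨ b * α⁻¹ * α ∈ A ∨ b * α⁻¹ * α⁻¹ ∈ A) := fun b h => by
          simpa only [← a2, mul_assoc] using sh _ (sh b h)
        have l : ∀ a b, a ∈ A → (b ∈ A ∨ b * α ∈ A ∨ b * α⁻¹ ∈ A) →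
            (a * b ∈ A ∨ a * b * α ∈ A ∨ a * b * α⁻¹ ∈ A) := fun a b ha h => by
          simpa only [mul_assoc, A.mul_mem_cancel_left ha] using h
        have r' : ∀ b, (b ∈ A ∨ b * α ∈ A ∨ b * α⁻¹ ∈ A) →
            (α * b ∈ A ∨ α * b * α ∈ A ∨ α * b * α⁻¹ ∈ A) ∧
            (α⁻¹ * b ∈ A ∨ α⁻¹ * b * α ∈ A ∨ α⁻¹ * b * α⁻¹ ∈ A) := by
          rintro b (h | h | h)
          · exact r b h
          · exact ⟨by simpa [mul_assoc] using sh' _ (r _ h).1,
              by simpa [mul_assoc] using sh' _ (r _ h).2⟩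
          · exact ⟨by simpa [mul_assoc] using sh _ (r _ h).1,
              by simpa [mul_assoc] using sh _ (r _ h).2⟩
        rintro a b (ha | ha | ha) hb
        · exact l a b ha hb
        · simpa [mul_assoc] using l _ _ ha (r' b hb).2
        · simpa [mul_assoc] using l _ _ ha (r' b hb).1
      inv_mem' := by
        rintro b (h | h | h)
        · exact Or.inl (inv_mem h)
        · rcases key _ (inv_mem h) with h' | h'
          · exact Or.inr (Or.inr (by simpa [mul_assoc] using h'.1))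
          · exact Or.inr (Or.inl (by simpa [mul_assoc] using h'.1))
        · rcases key _ (inv_mem h) with h' | h'
          · exact Or.inr (Or.inl (by simpa [mul_assoc] using h'.2))
          · exact Or.inr (Or.inr (by simpa [mul_assoc] using h'.2)) }
  have hαΔ : α ∈ Δ := Or.inr (Or.inr (by simp))
  obtain ⟨F, hF, hM⟩ := exists_sat_gen (Δ := Δ) hS hQ (sylIn_of_maximal (fun b hb => Or.inl hb)
    (isPGroup_autInducedBy hS Q) fun H hH hAH hHΔ b hb => by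
      rcases hHΔ hb with h | h | h
      · exact h
      · exact absurd ((H.mul_mem_cancel_left hb).1 (hAH h)) (np H hH)
      · exact absurd (inv_mem_iff.1 ((H.mul_mem_cancel_left hb).1 (hAH h))) (np H hH))
    (fun δ hδ hδA n hn h => by_contra fun hnQ => by
      have h5 := hout hn hnQ
      rcases hδ with h' | h' | h'
      · exact hδA h'
      · have h6 := mul_mem (mul_mem (inv_mem h') h) h'
        have h7 : α⁻¹ * cjAut Q n hn.2 * α⁻¹ ∈ A := by
          rcases key _ (cjAut_mem_autInducedBy hn.1 hn.2) with k | k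
          · have := mul_mem (inv_mem k.1) h5
            exact absurd (by simpa [mul_assoc, a2] using this) hαA
          · exact k.2
        have := mul_mem (inv_mem h7) h6
        exact hαA (by simpa [mul_assoc, a2] using this)
      · have h6 := mul_mem (mul_mem (inv_mem h') h) h'
        have := mul_mem (inv_mem h6) h5
        exact hαA (by simpa [mul_assoc, a2] using this))
    fun R hR => (hc R hR).imp' (α ^ ·) fun i h => ⟨pow_mem hαΔ i, h⟩
  refine ⟨F, hF, fun h => hαA ?_⟩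
  obtain ⟨g, hg, e⟩ := h _ _ (hM α hαΔ)
  exact mem_autInducedBy_iff.2 ⟨g, hg, fun x => by rw [← e x x.2, efn_of_mem α x.2]⟩

end Cfsg.Agent.BIC
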